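/-
Coset enumeration data, found by a computer search; checked by `decide +kernel`.
-/
import Cfsg.Agent.Lib.Spor.TC.Check

namespace CfsgLib.Spor.Fi22.CD

open CfsgLib.Spor.TC

def edgeTbl : Tbl :=
  .bin (.tip 0x800008300008000081000060000820000700007400007000071000070000600000500007300006000064000060000410000300006300005000054000050000520000500005100003000050000040000440000400004200004000040000020000430000300003400003000032000020000310000200002400002000020000010000220000100001300001000011000010000100000000001400000000003000000000020000000000100000000000) (.tip 0xf0000f40000f0000f20000f0000f10000f0000f00000e0000f30000e0000e40000e0000e10000e0000e00000d0000e20000d0000d30000d0000c10000d0000d00000b0000d40000c0000c30000c0000c20000c0000a0000090000c40000b0000b30000b0000b20000b0000b0000090000b10000a0000a30000a0000a20000a0000a1000080000a4000090000930000900008000007000092)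

def nodeTbl : Tbl :=
  .bin (.tip 0xe30000d20000b4000094000091000084000072000062000053000033000030000023000021000012000004000000) (.none)

def rowTbl : Tbl :=
  .bin (.tip 0xf0000e0000d0000c0000b0000a00009000080000700006000050000400003000020000100000) (.none)

def rels : List (List ℕ) := [[0, 1, 0, 1, 0, 1], [0, 2, 0, 2], [0, 3, 0, 3], [0, 4, 0, 4], [1, 2, 1, 2, 1, 2], [1, 3, 1, 3], [1, 4, 1, 4], [2, 3, 2, 3, 2, 3], [2, 4, 2, 4, 2, 4], [3, 4, 3, 4]]

def subs : List (List ℕ) := [[0], [1], [2], [3]]

noncomputable def cert : Cert :=
  ⟨5, rels, subs, edgeTbl.get 44, nodeTbl.get 24, rowTbl.get 20⟩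

end CfsgLib.Spor.Fi22.CD
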