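/-
Coset enumeration certificate, found by a computer search.
-/
import Cfsg.Agent.Lib.Spor.Fi22.CD.Data

namespace CfsgLib.Spor.Fi22.CD

open CfsgLib.Spor.TC

def scodes0_0 : List ℕ :=
  [0x10000100003,
   0x10000200003,
   0x10000300003,
   0x10000400003,
   0x1,
   0x9000010000a00003000010000400002,
   0x9000030000a00003000010000700002,
   0x9000070000a00003000010000a00002,
   0x1,
   0x110000b0001200003000020000200002,
   0x1100009000060000a0001200002000020000900002,
   0x1,
   0x17000110000e000120001800002000030000500002,
   0x17000160001800002000030000700002,
   0x1,
   0x1d000130001e00003000030000300002,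
   0x1d0001100010000120001e00003000020000800002,
   0x1d000160001e00002000030000a00002,
   0x1,
   0x250001700014000180002600002000040000100002,
   0x250001a0002600002000040000200002,
   0x250001c0002600002000040000400002,
   0x1,
   0x1d000180002e00003000030000600002,
   0x2d0001c0002e00002000040000a00002,
   0x1,
   0x2d000260003400003000040000300002,
   0x33000270003400003000060000600002,
   0x330002c0003400002000060000a00002,
   0x1,
   0x3b00030000220002f0003c00003000050000500002,
   0x3b0002d0001a0002e0003c00002000070000800002,
   0x1,
   0x3b000350004200003000070000200002,
   0x41000330002a000340004200002000080000800002,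
   0x1,
   0x470003d0004800003000090000700002,
   0x470003b000320003c0004800003000070000900002,
   0x470003f0004800003000090000a00002,
   0x1,
   0x4f000440003e000430005000003000090000100002,
   0x4f00041000380004200050000020000a0000500002,
   0x4f0004600050000020000a0000600002,
   0x1,
   0x47000430005800003000090000400002,
   0x57000410003a000420005800003000080000900002,
   0x570004500058000030000a0000a00002,
   0x1,
   0x5f0005100060000030000c0000400002,
   0x570005000060000030000a0000700002,
   0x5f0005500060000030000c0000a00002,
   0x1,
   0x670006100068000030000e0000200002,
   0x67000640005c0006300068000030000d0000500002,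
   0x670005f000540006000068000020000e0000900002,
   0x1,
   0x6f0006900070000030000f0000300002,
   0x6f0006b00070000030000f0000600002,
   0x6f00067000660006800070000030000e0000800002,
   0x6f0006e00070000020000f0000a00002]

def scodes0_ : List ℕ :=
  scodes0_0

set_option maxRecDepth 100000 in
theorem steps0 : cert.StepsOK 0 60 :=
  Cert.StepsOK.of_check _ (codes := scodes0_) (by decide +kernel)

def rcodes0_0 : List ℕ :=
  [0x80000200000700001000005000010000030000100000100001,
   0x90000100000f000020000100000300000d0000200000b00002,
   0x150000300001c00005000011000020000160000400001300003,
   0x1b0000400002c00007000019000040000170000300002400006,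
   0x230000500001d000030000210000500002f0000700001f00005,
   0x2b0000600003200008000029000060000270000600002500004,
   0x310000700002d0000400003a0000900002e0000500003500008,
   0x3900008000033000060000400000a0000370000800003400007,
   0x460000b00003f0000900003b0000700003d000090000430000a,
   0x560000d0000450000a0000410000800004e0000c00004200009,
   0x470000900004d0000b00004b0000b0000490000b0000590000d,
   0x5e0000e0000550000c0000530000c00004f0000a0000510000c,
   0x570000a00005d0000d00005b0000d0000630000e0000580000b,
   0x5f0000c0000650000e0000660000f0000620000d0000610000e,
   0x6d0000f00006e000100000670000e00006b0000f0000690000f,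
   0x770001000006f0000f000075000100000730001000007100010]

def rcodes0_ : List ℕ :=
  rcodes0_0

set_option maxRecDepth 100000 in
theorem rows0 : cert.RowsOK 60 16 0 16 :=
  Cert.RowsOK.of_check _ (codes := rcodes0_) (by decide +kernel)

end CfsgLib.Spor.Fi22.CD
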